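import Cfsg.Agent.HZ.L.Defs
import Cfsg.Agent.KM.Box

/-!
# OM (S4894), Lie type in cross characteristic: the property `QQ` and the covers with their automorphisms (helper4)

* `Cp D w u` : the twisted elements `w F`, `u F` have the same characteristic polynomial; `Iv D a` : `a` only depends on it;
* `Yt f χ w` : the sum of the multiplicities of `χ` in the characters of the torus of type `w`;
* `QQ f B` : the invariant combinations of the `Yt f χ w` are proportional to the degrees on `B`;
* `ScA X S` : `G ^ F` is the universal cover of `S` up to the characteristic, and all automorphisms of `S` lift to the frame.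
-/

set_option autoImplicit false
set_option linter.unusedSectionVars false

namespace Cfsg.Agent.OM.Au

open Cfsg Cfsg.Agent.DL Cfsg.Agent.DL.PP Cfsg.Agent.KZ.Lie

variable {p : ℕ} [Fact p.Prime] {k : Type} [Field k] [CharP k p] [IsAlgClosed k] {Y : Type} [Group Y] {N : Type}
  [Fintype N] [DecidableEq N] {ρ : Y →* GL N k} {F : MulAut Y} {G : Subgroup Y} (D : Datum p ρ F G)

/-- the same characteristic polynomial -/
def Cp (w u : D.W) : Prop := (D.Wm w * D.Mx).charpoly = (D.Wm u * D.Mx).charpoly

/-- functions of the characteristic polynomial -/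
def Iv (a : D.W → ℂ) : Prop := ∀ w u, Cp D w u → a w = a u

/-- the universal cover with the automorphisms of the simple group -/
structure ScA (S : Type) [Group S] extends KM.Sc D S where
  /-- the group is semisimple -/
  ss : ∀ v, HZ.L.Perp (HZ.L.rts D) v → v = 0
  /-- the centre of the finite group is central in the algebraic group -/
  cen : ∀ h : ↥(GF F G), π h = 1 → ∀ y ∈ G, y * h = h * y
  aut : ∀ σ : MulAut S, ∃ g ∈ GF F G, ∃ α A, Au D α A ∧
    ∀ h h' : ↥(GF F G), (h' : Y) = g * α h * g⁻¹ → π h' = σ (π h)

variable {D} [Fintype ↥(GF F G)]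

/-- the total multiplicity at the type `w` -/
noncomputable def Yt (f : Fr D) (χ : ↥(GF F G) → ℂ) (w : D.W) : ℂ := ∑ᶠ c : Lbl D, classInner χ (RW f w c)

/-- the invariant combinations of the total multiplicities are proportional to the degrees -/
def QQ (f : Fr D) (B : Set (IrrCharacter ↥(GF F G))) : Prop :=
  ∀ a : D.W → ℂ, Iv D a → ∀ χ ∈ B, ∀ χ' ∈ B,
    (∑ᶠ w, a w * Yt f χ w) * (χ' : ↥(GF F G) → ℂ) 1 = (∑ᶠ w, a w * Yt f χ' w) * (χ : ↥(GF F G) → ℂ) 1

end Cfsg.Agent.OM.Au
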