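import Cfsg.Agent.OM.Au.Alg
import Cfsg.Agent.HZ.L.U.Box
import Cfsg.Agent.HZ.L.CL.Ex
import Cfsg.Agent.KM.Sc.E2
import Cfsg.Agent.TwoF.DC.D4.Main

/-!
# OM (S4894): the data of the Steinberg groups of type `D₄`, `E₆`, `E₇`, `E₈` (helper4)

`hasA_e6`, `hasA_te6`, `hasA_e7`, `hasA_e8`, `hasA_td4`, `hasA_plus4`.
-/

set_option autoImplicit false
set_option linter.unusedSectionVars false

namespace Cfsg.Agent.OM.Au

open Cfsg Cfsg.Lie Cfsg.Agent.DL Cfsg.Agent.DL.Ex Matrix Cfsg.Agent.TwoF.DC Cfsg.Agent.TwoF.DC.TE Cfsg.Agent.TwoF.DC.D4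
  Cfsg.Agent.KM.Dat Cfsg.Agent.KM.Sc Cfsg.Agent.HZ.L Cfsg.Agent.HZ.L.U Cfsg.Agent.Nodes.RGDChev
  Cfsg.Agent.ChevalleyStructure.CoxeterGeomTypes Cfsg.Agent.ChevalleyStructure.NPerm Cfsg.Agent.BpExc.TowChev
open Cfsg.Agent.H405.UE (PR)
open Cfsg.Agent.H92.NE (bl_apply bl_sr)
open Cfsg.Agent.ChevalleyStructure.StTheta (theta)
open Cfsg.Agent.H129.StCover (stMap)

section Gen

variable {C C' : ChevalleyDatum} {n n' : ℕ} {M : CoxeterMatrix (Fin n)} {M' : CoxeterMatrix (Fin n')}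

/-- the type of a simply laced table -/
theorem iso_tab (hp : IsType C n M) {R : RC (Fin n) (PR C)} (T : RD.Tab C n R Subtype.val) (hc : ∀ x, R.cov x = R.vec x)
    (hs : ∀ i j, cartanOf C n i j = cartanOf C n j i) :
    Iso (Set.range fun x => (R.wt x, R.cov x)) (Ph C n (cartanOf C n)) := by
  have h1 : ∀ x, cv (cartanOf C n) (R.vec x) = R.wt x := fun x => funext fun j => by
    have h2 : H92.NE.bl (cartanOf C n) (R.vec x) (R.vec x) = 2 := by
      rw [← R.pair_wt_self x, bl_apply, RC.pair, hc]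
      exact Finset.sum_congr rfl fun i _ => by
        rw [RC.wt, RC.toWt, Finset.mul_sum]
        exact Finset.sum_congr rfl fun l _ => by rw [T.C, mul_assoc]
    rw [cv, h2, bl_sr, Int.mul_ediv_cancel_left _ two_ne_zero]
    exact Finset.sum_congr rfl fun l _ => by rw [T.C]
  refine CL.ExB.iso_of Prod.swap ⟨?_, Prod.swap_injective.injOn, ?_⟩ ?_
  · rintro _ ⟨x, rfl⟩
    obtain ⟨s, hs, e⟩ := (T.isRt_iff hp _).1 ⟨x, rfl⟩
    exact ⟨⟨s, hs⟩, Prod.ext ((hc x).trans e.symm) ((h1 x).symm.trans (congrArg (cv _) e.symm))⟩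
  · rintro _ ⟨s, rfl⟩
    obtain ⟨x, e⟩ := (T.isRt_iff hp _).2 ⟨s, s.2, rfl⟩
    exact ⟨_, ⟨x, rfl⟩, Prod.ext ((hc x).trans e) ((h1 x).symm.trans (congrArg (cv _) e))⟩
  · rintro _ ⟨x, rfl⟩ _ ⟨y, rfl⟩
    show R.cov x ⬝ᵥ R.wt y = R.wt x ⬝ᵥ R.cov y
    rw [hc, hc]
    simp only [dotProduct, RC.wt, RC.toWt, Finset.mul_sum, Finset.sum_mul, T.C]
    rw [Finset.sum_comm]
    exact Finset.sum_congr rfl fun i _ => Finset.sum_congr rfl fun j _ => by rw [hs]; ring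

variable {p : ℕ} [Fact p.Prime] {k : Type} [Field k] [IsAlgClosed k] [CharP k p]
  {R : RDat p (Fin n) (PR C) k (C.SteinbergGroup k)}

theorem hasA_st (E : StE R) (hp : IsType C n M) {L : Lv C C' n n'} {hp' : IsType C' n' M'}
    {j : C.SteinbergGroup k →* ↥(C'.group k)} (U : Up L hp' j) (hj : Function.Injective j) (hk : LocFin k) (hF : R.Fa)
    (hc : ∀ x, R.R.cov x = R.R.vec x) (hs : Sl C n) (P : Tws R) (hP : P.Fr = stMap C (frobenius k p)) {S : Type} [Group S]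
    (hN : P.Num S) : HasA p (Ph C n (cartanOf C n)) S := by
  obtain ⟨μ, h3⟩ := E.diag hp U
  have a : Alg P ((C'.group k).subtype.comp j) := ⟨hF, lf_of_locFin hk, (C'.group k).subtype_injective.comp hj,
    fun g => by rw [hP]; exact StE.fr U g, E.poly hp U hk, 1, μ, fun c => by rw [inv_one, one_mul, mul_one, h3]⟩
  exact hasA_alg a hN (iso_tab hp E.tab hc hs.sym)

variable (p k)

theorem inj8 : Function.Injective (theta TE.hp8.inList k) :=
  (up8 k).inj TE.hp8 (by simp) (fu8 k) (S1054.result _ (by simp)).1 0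

theorem stE8 : StE (d8 k p) :=
  ⟨st8 p k, (up8 k).rdat_w TE.hp8 (inj8 k) (tab_rc TE.hp8 sl8) (fu8 k) p, fun _ _ => rfl, tab_rc TE.hp8 sl8⟩

theorem stE4 : StE (d4 p k) :=
  ⟨st4 p k, (up4 k).rdat_w Nodes.RGDTwD4.hp (inj4 k) (tab_rc Nodes.RGDTwD4.hp sl4) (fu8 k) p, fun _ _ => rfl,
    tab_rc Nodes.RGDTwD4.hp sl4⟩

end Gen

variable {r : ℕ} [hr : Fact r.Prime] {F : Type} [Field F] [Fintype F] [CharP F r]

theorem exists_pw {q n : ℕ} (hq : IsPrimePow q) (hn : n ≠ 0) (hK : Fintype.card F = q ^ n) : ∃ f, 0 < f ∧ q = r ^ f := by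
  obtain ⟨m, hp, hm⟩ := FiniteField.card F r
  obtain ⟨f, -, rfl⟩ := (Nat.dvd_prime_pow hp).mp (show q ∣ r ^ (m : ℕ) by rw [← hm, hK]; exact dvd_pow_self q hn)
  exact ⟨f, Nat.pos_of_ne_zero (by rintro rfl; exact hq.ne_one rfl), rfl⟩

theorem hasA_e8 : HasA r PE8 (chevE8.group F) := by
  obtain ⟨f, -, hq⟩ := FiniteField.card F r
  let k := AlgebraicClosure F
  let P := tw0 (st8 r k) f f.pos
  have hc := fa_of_faith (comb_E8 P car8 fun _ => rfl).faith 0
  have h1 := S1054.result (F := F) chevE8 (by simp)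
  obtain ⟨π, h2, h3⟩ := pi_untw (st8 r k) TE.hp8 P hc (fun _ => rfl) (algebraMap F k) hq
  have := P.finite_TT hc
  have := Finite.of_surjective _ h2
  refine hasA_st (stE8 r k) TE.hp8 (up8 k) (inj8 k) (locFin_closure F) hc (fun _ => rfl) sl8 P rfl
    ⟨h1.1, h1.2, ⟨π, h2, h3⟩, 1, ?_, cyc r S2107.result, (card_mulAut_le _).trans ?_⟩
  · have := finite_Zc P
    exact Nat.card_pos
  · rw [S2125.result r f hq, one_mul]
    exact Nat.mul_le_mul_right _ (Nat.le_mul_of_pos_left _ Nat.card_pos)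

theorem hasA_e7 : HasA r (Ph chevE7 7 (cartanOf chevE7 7)) (chevE7.group F) := by
  obtain ⟨f, hp, hq⟩ := FiniteField.card F r
  let k := AlgebraicClosure F
  let P := tw0 (st7 r k) f f.pos
  have hc := fa_of_faith (comb_E7 P car7 fun _ => rfl).faith 0
  have h1 := S1054.result (F := F) chevE7 (by simp)
  obtain ⟨π, h2, h3⟩ := pi_untw (st7 r k) TE.hp7 P hc (fun _ => rfl) (algebraMap F k) hq
  have := P.finite_TT hc
  have := Finite.of_surjective _ h2
  refine hasA_st (stE7 r k) TE.hp7 (up7 k) (inj7 k) (locFin_closure F) hc (fun _ => rfl) sl7 P rfl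
    ⟨h1.1, h1.2, ⟨π, h2, h3⟩, Nat.gcd 2 (r ^ (f : ℕ) - 1), ?_, cyc r (S2106.result hq), (card_mulAut_le _).trans ?_⟩
  · refine le_card_Zc P Nat.prime_two ![0, 1, 0, 0, 1, 0, 1] 1 rfl (fun i => ?_) fun hm =>
      ⟨not_dvd_of hp Nat.prime_two f.pos (Or.inl hm), fun i => ?_⟩
    · change _ ∣ ∑ j, _ * cartanOf chevE7 7 j i
      revert i; decide +kernel
    · conv_lhs => rw [← mul_one (![0, 1, 0, 0, 1, 0, 1] _)]
      exact Nat.ModEq.mul_left _ ((Nat.modEq_iff_dvd' (Nat.one_le_pow _ _ hp.pos)).mpr hm)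
  · rw [S2124.result r f hq]
    exact Nat.mul_le_mul_right _ (Nat.mul_le_mul_right _ (Nat.le_mul_of_pos_right _ Nat.card_pos))

theorem hasA_e6 : HasA r PE6 (chevE6.group F) := by
  obtain ⟨f, hp, hq⟩ := FiniteField.card F r
  let k := AlgebraicClosure F
  let P := tw6 r k f f.pos 1
  have hc := fa_of_faith (comb_E6 P car6 tw6_gι).faith 0
  have h1 := S1054.result (F := F) chevE6 (by simp)
  obtain ⟨π, h2, h3⟩ := pi_untw (st6 r k) TE.hp6 P hc (fun _ => rfl) (algebraMap F k) hq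
  have := P.finite_TT hc
  have := Finite.of_surjective _ h2
  refine hasA_st (stE6 r k) TE.hp6 (up6 k) (inj6 k) (locFin_closure F) hc (fun _ => rfl) sl6 P rfl
    ⟨h1.1, h1.2, ⟨π, h2, h3⟩, Nat.gcd 3 (r ^ (f : ℕ) - 1), ?_, cyc r (S2105.result hq), (card_mulAut_le _).trans ?_⟩
  · refine le_card_Zc P Nat.prime_three ![1, 0, 2, 0, 1, 2] 0 rfl (fun i => ?_) fun hm =>
      ⟨not_dvd_of hp Nat.prime_three f.pos (Or.inl hm), fun i => ?_⟩
    · change _ ∣ ∑ j, _ * cartanOf chevE6 6 j i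
      revert i; decide +kernel
    · conv_lhs => rw [← mul_one (![1, 0, 2, 0, 1, 2] _)]
      exact Nat.ModEq.mul_left _ ((Nat.modEq_iff_dvd' (Nat.one_le_pow _ _ hp.pos)).mpr hm)
  · rw [S2123.result r f hq, tw6_cent, mul_comm 2]
    exact le_rfl

theorem hasA_te6 {q : ℕ} (hq : IsPrimePow q) (hK : Fintype.card F = q ^ 2) : HasA r PE6 (twistedE6 F q) := by
  obtain ⟨f, hf, rfl⟩ := exists_pw (r := r) hq two_ne_zero hK
  have hp := hr.out
  let k := AlgebraicClosure F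
  let P := tw6 r k f hf (-1)
  have hc := fa_of_faith (comb_E6 P car6 tw6_gι).faith 0
  have h1 := S1070.result hq hK
  obtain ⟨π, h2, h3⟩ := pi_tw hf hc (algebraMap F k) hq hK
  have := P.finite_TT hc
  have := Finite.of_surjective _ h2
  refine hasA_st (stE6 r k) TE.hp6 (up6 k) (inj6 k) (locFin_closure F) hc (fun _ => rfl) sl6 P rfl
    ⟨h1.1, h1.2, ⟨π, h2, h3⟩, Nat.gcd 3 (r ^ f + 1), ?_, ?_, (card_mulAut_le _).trans ?_⟩
  · refine le_card_Zc P Nat.prime_three ![1, 0, 2, 0, 1, 2] 0 rfl (fun i => ?_) fun hm =>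
      ⟨not_dvd_of hp Nat.prime_three hf (Or.inr hm), fun i => ?_⟩
    · change _ ∣ ∑ j, _ * cartanOf chevE6 6 j i
      revert i; decide +kernel
    · change ![1, 0, 2, 0, 1, 2] (H129.StTw.nod i) % 3 = ![1, 0, 2, 0, 1, 2] i * r ^ f % 3
      fin_cases i <;> simp [H129.StTw.nod] <;> omega
  · by_cases h2 : r ^ f = 2
    · obtain rfl : r = 2 := (Nat.prime_dvd_prime_iff_eq hp Nat.prime_two).mp (h2 ▸ dvd_pow_self r hf.ne')
      rw [h2] at hK ⊢
      exact ⟨_, _, 2, S2109.result hK, by simp⟩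
    · exact cyc r (S2108.result hq hK h2)
  · rw [S2130.result r f (by rw [hK, ← pow_mul, mul_comm]) hf, tw6_cent, mul_comm 2]
    exact le_rfl

theorem hasA_td4 {q : ℕ} (hq : IsPrimePow q) (hK : Fintype.card F = q ^ 3) : HasA r PD4 (twistedD4 F q) := by
  obtain ⟨f, hf, rfl⟩ := exists_pw (r := r) hq three_ne_zero hK
  let k := AlgebraicClosure F
  let P := tw4 r k f hf tau
  have hc : (d4 r k).Fa := (comb4 hf (Or.inr rfl)).fa
  have h1 := S1071.result hq hK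
  obtain ⟨π, h2, h3⟩ := pi_tri hf (algebraMap F k) hK
  have := P.finite_TT hc
  have := Finite.of_surjective _ h2
  refine hasA_st (stE4 r k) Nodes.RGDTwD4.hp (up4 k) (inj4 k) (locFin_closure F) hc (fun _ => rfl) sl4 P rfl
    ⟨h1.1, h1.2, ⟨π, h2, h3⟩, 1, ?_, cyc r (S2110.result hq hK), (card_mulAut_le _).trans ?_⟩
  · have := finite_Zc P
    exact Nat.card_pos
  · rw [S2129.result r f (by rw [hK, ← pow_mul, mul_comm]) hf, one_mul]
    exact Nat.mul_le_mul_right _ (Nat.mul_le_mul_right _ cent_tau)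

theorem hasA_plus4 : HasA r PD4 (POmega F (quadFormPlus 4 F)) := by
  obtain ⟨f, hp, hq⟩ := FiniteField.card F r
  have : NeZero (f : ℕ) := ⟨f.pos.ne'⟩
  let k := AlgebraicClosure F
  let P := tw4 r k f f.pos 1
  have hc : (d4 r k).Fa := (comb4 f.pos (Or.inl rfl)).fa
  have h1 := S1054.result (F := F) chevD4 (by simp)
  obtain ⟨i⟩ := S1082.result (F := F)
  obtain ⟨π, h2, h3⟩ := pi_untw (st4 r k) Nodes.RGDTwD4.hp P hc (fun _ => rfl) (algebraMap F k) hq
  have := P.finite_TT hc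
  have := Finite.of_surjective _ (i.surjective.comp h2)
  have h4 := h1.1
  have key : ∀ d, d ≤ Nat.card P.Zc →
      (∃ (A : Type) (_ : CommGroup A) (a : ℕ), HasSchurMultiplier (POmega F (quadFormPlus 4 F)) A ∧ Nat.card A ∣ d * r ^ a) →
      Nat.card (Out (POmega F (quadFormPlus 4 F))) = d * 6 * f → HasA r PD4 (POmega F (quadFormPlus 4 F)) := fun d a b c =>
    hasA_st (stE4 r k) Nodes.RGDTwD4.hp (up4 k) (inj4 k) (locFin_closure F) hc (fun _ => rfl) sl4 P rfl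
      ⟨i.symm.isSimpleGroup, fun hh => h1.2 ⟨⟨fun x y => i.injective (by rw [map_mul, map_mul, hh.1.1])⟩⟩,
      ⟨i.toMonoidHom.comp π, i.surjective.comp h2, fun t ht => h3 (i.injective (ht.trans (map_one i).symm))⟩, d, a, b,
      (card_mulAut_le _).trans (by rw [c, ← cent_one]; exact le_rfl)⟩
  by_cases hp2 : r = 2
  · subst hp2
    refine key 1 ?_ ?_ ?_
    · have := finite_Zc P
      exact Nat.card_pos
    · by_cases h5 : Fintype.card F = 2
      · exact ⟨_, _, 2, S2098.result h5, by simp⟩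
      · refine ⟨_, _, 2, S2097.result rfl 4 le_rfl (by decide) fun a => h5 a.2, ?_⟩
        have : NeZero (Nat.gcd 2 (Fintype.card F ^ 4 - 1)) := ⟨Nat.gcd_ne_zero_left two_ne_zero⟩
        simpa [sq] using mul_dvd_mul (Nat.gcd_dvd_left 2 _) (Nat.gcd_dvd_left 2 _)
    · obtain ⟨j⟩ := (if_pos rfl).mp (S2607.result (m := 4) f.pos hq le_rfl)
      rw [Nat.card_congr j.toEquiv]
      simp [Fintype.card_perm, Nat.factorial]
  · refine key 4 (four_le hp2 f.pos) ⟨_, _, 0, S2097.result rfl 4 le_rfl (by decide) fun a => hp2 ?_, ?_⟩ ?_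
    · exact (Nat.prime_dvd_prime_iff_eq hp Nat.prime_two).mp (a.2 ▸ hq ▸ dvd_pow_self r f.pos.ne')
    · have : NeZero (Nat.gcd 2 (Fintype.card F ^ 4 - 1)) := ⟨Nat.gcd_ne_zero_left two_ne_zero⟩
      simpa using mul_dvd_mul (Nat.gcd_dvd_left 2 _) (Nat.gcd_dvd_left 2 _)
    · obtain ⟨j⟩ := (if_pos rfl).mp (S2608.result (m := 4) f.pos hq hp2 le_rfl)
      rw [Nat.card_congr j.toEquiv]
      simp [Fintype.card_perm, Nat.factorial]

end Cfsg.Agent.OM.Au
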