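import Cfsg.Agent.OM.Au.Defs
import Cfsg.Agent.HZ.L.Alg
import Cfsg.Agent.KZ.Dat.Cov
import Cfsg.Agent.KZ.Dat.AuOf

/-!
# OM (S4894): the data with their automorphisms, from a twisted `RDat` (helper4)

* `HasA p Ψ S` : a datum of the type `Ψ` with `St` and `ScA`;
* `scA_alg`, `hasA_alg` : from `Alg P ρ` and `P.Num S`.
-/

set_option autoImplicit false
set_option linter.unusedSectionVars false

namespace Cfsg.Agent.OM.Au

open Cfsg Cfsg.Agent.DL Cfsg.Agent.DL.PP Cfsg.Agent.KZ.Lie Cfsg.Agent.HZ.L Cfsg.Agent.TwoF.DC Cfsg.Agent.KM.Dat Matrix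

/-- a datum of the type `Ψ` for the simple group `S` -/
def HasA (p : ℕ) [Fact p.Prime] {R : Type} [Fintype R] (Ψ : RS R) (S : Type) [Group S] : Prop :=
  ∃ (k : Type) (_ : Field k) (_ : CharP k p) (_ : IsAlgClosed k) (Y : Type) (_ : Group Y) (N : Type) (_ : Fintype N)
    (_ : DecidableEq N) (ρ : Y →* GL N k) (F : MulAut Y) (G : Subgroup Y) (X : Datum p ρ F G) (j : ℕ) (B : Mat X.R),
    St X j B ∧ Iso (rts X) Ψ ∧ Nonempty (ScA X S)

section Gen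

variable {p : ℕ} [Fact p.Prime] {k : Type} [Field k] [CharP k p] [IsAlgClosed k] {Y : Type} [Group Y] {N : Type}
  [Fintype N] [DecidableEq N] {ρ : Y →* GL N k} {F : MulAut Y} {G : Subgroup Y} {X : Datum p ρ F G} {S : Type} [Group S]

theorem HasA.mk' {R : Type} [Fintype R] {Ψ : RS R} {j : ℕ} {B : Mat X.R} (h1 : St X j B) (h2 : Iso (rts X) Ψ)
    (h3 : Nonempty (ScA X S)) : HasA p Ψ S := ⟨k, _, _, inferInstance, Y, _, N, _, _, ρ, F, G, X, j, B, h1, h2, h3⟩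

/-- what a subgroup `H = G ^ F` has to satisfy -/
def Pk (X : Datum p ρ F G) (H : Subgroup Y) (S : Type) [Group S] : Prop :=
  ∃ π : H →* S, Function.Surjective π ∧ π.ker = Subgroup.center H ∧ commutator H = ⊤ ∧
    (∀ (K : Type) [Group K] [Finite K], IsQuasisimple K → ¬ p ∣ Nat.card (Subgroup.center K) →
      ∀ e : (K ⧸ Subgroup.center K) ≃* S, ∃ ψ : H →* K, Function.Surjective ψ ∧ ∀ s, e (QuotientGroup.mk (ψ s)) = π s) ∧
    (∀ h : H, π h = 1 → ∀ y ∈ G, y * h = h * y) ∧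
    ∀ σ : MulAut S, ∃ g ∈ H, ∃ α A, Au X α A ∧ ∀ h h' : H, (h' : Y) = g * α h * g⁻¹ → π h' = σ (π h)

theorem Pk.scA {H : Subgroup Y} (h : Pk X H S) (e : GF F G = H) (qs : X.QS) (nt : KM.Deg.NT p ρ F)
    (pi1 : TO.X.Cn.Pi1 X 1) (ss : ∀ v, Perp (rts X) v → v = 0) : Nonempty (ScA X S) := by
  subst e
  obtain ⟨π, h1, h2, h3, h4, h5, h6⟩ := h
  exact ⟨⟨⟨qs, nt, pi1, π, h1, h2, h3, h4⟩, ss, h5, h6⟩⟩

end Gen

variable {p : ℕ} [Fact p.Prime] {ι Φ k G : Type} [Fintype ι] [DecidableEq ι] [Fintype Φ] [DecidableEq Φ] [Field k]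
  [IsAlgClosed k] [CharP k p] [Group G] {D : RDat p ι Φ k G} {P : Tws D}

/-- the automorphisms of the simple group, by counting -/
theorem aut_card (hF : D.Fa) {S : Type} [Group S] (hS : IsSimpleGroup S) (hn : ¬ IsMulCommutative S) {π : P.TT →* S}
    (hπ : Function.Surjective π) (hc : π.ker ≤ Subgroup.center P.TT)
    (hA : Nat.card (MulAut S) ≤
      Nat.card P.Zc * Nat.card (Subgroup.centralizer ({P.σ} : Set P.Gr)) * P.f * Nat.card S) (α : MulAut S) :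
    ∃ (s : P.TT) (c : ι → kˣ) (γ : P.Gr) (a : ℕ), D.Λ c ∈ P.QQ ∧ Commute γ P.σ ∧
      ∀ s₁ : P.TT, ∃ s₂ : P.TT, (s₂ : G) = P.dl c γ a s₁ ∧ α (π s₁) = π (s * s₂ * s⁻¹) := by
  have := P.finite_TT hF
  have := P.finite_QQ
  have : Finite S := Finite.of_surjective _ hπ
  have hk := ker_eq_center hS hn hπ hc
  have hT := P.perfect_of hF (perfect_of_simple hS hn) hπ hc
  have : Nonempty ι := by
    by_contra h
    have h1 : (⊥ : Subgroup P.TT) = ⊤ := P.TT_ind hF fun j _ _ => (h ⟨rp j⟩).elim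
    refine hn ⟨⟨fun a b => ?_⟩⟩
    obtain ⟨a, rfl⟩ := hπ a
    rw [Subgroup.mem_bot.1 (h1.ge (Subgroup.mem_top a)), map_one, one_mul, mul_one]
  let φ : P.QQ →* P.QQ := (D.Λ.comp P.QQ.subtype).codRestrict P.QQ fun c => P.Λ_QQ c.2
  have hφ : Nat.card (P.QQ ⧸ φ.range) = Nat.card P.Zc := by
    rw [← Subgroup.index, index_range_eq]
    refine Nat.card_eq_of_bijective (fun x => ⟨x.1.1, P.mem_Zc.2 ⟨x.1.2, congrArg Subtype.val x.2⟩⟩)
      ⟨fun x y h => Subtype.ext (Subtype.ext (congrArg (fun z : P.Zc => z.1) h)), fun c => ?_⟩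
    exact ⟨⟨⟨c.1, (P.mem_Zc.1 c.2).1⟩, Subtype.ext (P.mem_Zc.1 c.2).2⟩, rfl⟩
  choose sx hsx using hπ
  choose cx hcx using fun q : P.QQ ⧸ φ.range => D.Λ_surj (q.out : P.QQ)
  have hcx' : ∀ q, D.Λ (cx q) ∈ P.QQ := fun q => hcx q ▸ (q.out : P.QQ).2
  have hγ : ∀ γ : Subgroup.centralizer ({P.σ} : Set P.Gr), Commute γ.1 P.σ := fun γ =>
    Subgroup.mem_centralizer_singleton_iff.1 γ.2
  let δ : (P.QQ ⧸ φ.range) → Subgroup.centralizer ({P.σ} : Set P.Gr) → Fin P.f → P.TT →* P.TT := fun q γ a =>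
    ((P.dl (cx q) γ a).comp P.TT.subtype).codRestrict P.TT fun g => P.dl_TT (hcx' q) (hγ γ) g.2
  have hδ : ∀ q γ a, Function.Surjective (δ q γ a) := fun q γ a g => by
    obtain ⟨g', hg', e⟩ := P.dl_surj (c := cx q) (γ := γ) a.2.le P.TT_le_Fx (fun _ => P.dl_TT (hcx' q) (hγ γ)) g.2
    exact ⟨⟨g', hg'⟩, Subtype.ext e⟩
  choose F hF' using fun x : (((P.QQ ⧸ φ.range) × Subgroup.centralizer ({P.σ} : Set P.Gr)) × Fin P.f) × S =>
    TwoF.DC.exists_ind (fun y => ⟨_, hsx y⟩) hk (β := (MulAut.conj (sx x.2)).toMonoidHom.comp (δ x.1.1.1 x.1.1.2 x.1.2))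
      ((MulAut.conj (sx x.2)).surjective.comp (hδ _ _ _))
  have hinj : Function.Injective F := by
    rintro ⟨⟨⟨q, γ⟩, a⟩, x⟩ ⟨⟨⟨q', γ'⟩, a'⟩, x'⟩ e
    have h1 := hom_eq_of_perfect hT hc fun s =>
      (hF' (((q, γ), a), x) s).symm.trans (e ▸ hF' (((q', γ'), a'), x') s)
    obtain ⟨h2, h3, d, hd, h4, h5⟩ := P.dl_inj hF (hcx' q) (hγ γ) (hcx' q') (hγ γ') a.2 a'.2 ((sx x')⁻¹ * sx x).2
      fun g hg => by
        have h2 : (sx x : G) * P.dl (cx q) γ a g * (sx x : G)⁻¹ = sx x' * P.dl (cx q') γ' a' g * (sx x' : G)⁻¹ :=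
          congrArg Subtype.val (h1 ⟨g, hg⟩)
        rw [Subgroup.coe_mul, Subgroup.coe_inv, eq_inv_mul_of_mul_eq (eq_mul_of_mul_inv_eq h2.symm)]
        group
    have h6 : q = q' := by
      rw [← q.out_eq, ← q'.out_eq]
      refine QuotientGroup.eq.2 ⟨⟨d, hd⟩, Subtype.ext ?_⟩
      rw [hcx, hcx] at h5
      rw [Subgroup.coe_mul, Subgroup.coe_inv, ← h5, mul_comm (D.Λ d), inv_mul_cancel_left]
      rfl
    subst h6
    have h7 : (sx x')⁻¹ * sx x ∈ π.ker := by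
      rw [hk, Subgroup.mem_center_iff]
      intro g
      refine Subtype.ext ?_
      rw [Subgroup.coe_mul, Subgroup.coe_mul _ _ g, h4]
      exact (D.κ_central (fun i => congrFun (mul_eq_right.1 h5) i) g).symm
    rw [MonoidHom.mem_ker, map_mul, map_inv, hsx, hsx, inv_mul_eq_one] at h7
    rw [Subtype.ext h2, Fin.ext h3, h7]
  obtain ⟨x, rfl⟩ := ((Nat.bijective_iff_injective_and_card F).2 ⟨hinj, le_antisymm (Nat.card_le_card_of_injective F hinj)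
    (by rwa [Nat.card_prod, Nat.card_prod, Nat.card_prod, hφ, Nat.card_eq_fintype_card (α := Fin _), Fintype.card_fin])⟩).2 α
  exact ⟨sx x.2, cx x.1.1.1, x.1.1.2, x.1.2, hcx' _, hγ _, fun s => ⟨δ _ _ _ s, rfl, hF' x s⟩⟩

variable {N : Type} [Fintype N] [DecidableEq N] {ρ : G →* GL N k} (h : Alg P ρ)
include h

theorem gf_bij (γ : P.Gr) (a : ℕ) : Function.Bijective (P.GF γ a) := by
  refine ⟨fun x y e => ?_, ?_⟩
  · have h1 : P.GF 1 a x = P.GF 1 a y := by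
      have h2 := congrArg (P.GF γ⁻¹ 0) e
      rwa [GF_GF, GF_GF, inv_mul_cancel, zero_add] at h2
    have h2 := congrArg ρ h1
    rw [h.GF_one, h.GF_one] at h2
    exact h.inj (Units.ext (Matrix.map_injective (iterateFrobenius k p a).injective (congrArg Units.val h2)))
  · rw [← MonoidHom.range_eq_top, eq_top_iff, ← D.gen, Subgroup.closure_le]
    rintro _ ⟨i, s, hs⟩
    obtain ⟨t, rfl⟩ := IsAlgClosed.exists_pow_nat_eq s (pow_pos (Fact.out : p.Prime).pos a)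
    obtain ⟨i, rfl⟩ := (P.gι γ).surjective i
    rcases hs with rfl | rfl
    · exact ⟨_, P.GF_x _ _ i t⟩
    · exact ⟨_, P.GF_y _ _ i t⟩

omit h in
theorem gg_rv' (γ : P.Gr) (e : Bool) (b : Φ) :
    (fun j => rv P (e, b) (ob P ((P.gι γ).symm (rp j)))) = rv P (e, P.gΦ γ b) := funext fun j => by
  rw [rv_apply, rv_apply, rp_ob]
  obtain ⟨i, hi⟩ := (P.gι γ).surjective (rp j)
  simp only [← hi, Equiv.symm_apply_apply, RC.vec, P.cf_gr]

/-- graph and field automorphisms -/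
theorem au_gf {γ : P.Gr} (hγ : Commute γ P.σ) (a : ℕ) : Au h.dat (MulEquiv.ofBijective _ (gf_bij h γ a))
    (Matrix.of fun i : ι => Pi.single ((P.gι γ).symm i) ((p ^ a : ℕ) : ℤ)) := by
  have hm : ∀ c : ι → kˣ, mon (Matrix.of fun i : ι => Pi.single ((P.gι γ).symm i) ((p ^ a : ℕ) : ℤ)) c =
      fun i => c ((P.gι γ).symm i) ^ p ^ a := fun c => funext fun i => by
    rw [mon_apply, ← zpow_natCast]
    exact chr_single _ _ c
  refine KZ.Dat.au_of_surj h.dat (g := fun x j => x (ob P ((P.gι γ).symm (rp j)))) (fun y => P.GF_comm hγ a P.f y)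
    (fun x hx => ?_) (fun x hx => ?_) (fun x hx => ⟨fun h0 j => ?_, fun h0 _ => h0 _⟩) (fun x hx => ?_)
    (fun c => (P.GF_κ _ _ c).trans (congrArg D.κ (hm c).symm)) fun c => ?_
  · obtain ⟨⟨e, b⟩, rfl⟩ := h.rt_iff.1 hx
    exact h.rt_iff.2 ⟨_, (gg_rv' γ e b).symm⟩
  · obtain ⟨⟨e, b⟩, rfl⟩ := h.rt_iff.1 hx
    obtain ⟨b, rfl⟩ := (P.gΦ γ).surjective b
    exact ⟨_, h.rt_iff.2 ⟨(e, b), rfl⟩, gg_rv' γ e b⟩
  · have h1 := h0 (ob P (P.gι γ (rp j)))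
    simp only [rp_ob, Equiv.symm_apply_apply] at h1
    exact h1.trans_eq (congrArg x (orb_rp j))
  · obtain ⟨⟨e, b⟩, rfl⟩ := h.rt_iff.1 hx
    refine ⟨_, KZ.Dat.surj_pow (p := p) (P.ε γ b).ne_zero a, fun u => ?_⟩
    show P.GF γ a (xx P (rv P (e, b)) u) = xx P (fun j => rv P (e, b) (ob P ((P.gι γ).symm (rp j)))) _
    rw [gg_rv', xx_rv, xx_rv]
    exact P.GF_ζ _ _ e b u
  · obtain ⟨d, hd⟩ := KZ.Dat.surj_mon (p := p) a c
    rw [KZ.Dat.mon_pow] at hd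
    exact ⟨fun i : ι => d (P.gι γ i), (hm _).trans (funext fun i =>
      (congrArg (fun j : ι => d j ^ p ^ a) ((P.gι γ).apply_symm_apply i)).trans (congrFun hd i))⟩

/-- diagonal automorphisms -/
theorem au_diag {c : ι → kˣ} (hc : D.Λ c ∈ P.QQ) : Au h.dat (MulAut.conj (D.κ c)) 1 :=
  KZ.Dat.au_conj (D := h.dat) (c := c) fun y => by
    have h1 : (D.κ c)⁻¹ * P.Θ (D.κ c) = D.κ (c⁻¹ * fun i => c (P.sι.symm i) ^ p ^ P.f) := by
      rw [map_mul, map_inv, Tws.Θ_eq, Tws.GF_κ]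
    exact (congrArg (· * y) h1).trans ((D.κ_central (fun i => by
      rw [← D.Λ_def, map_mul, map_inv, Pi.mul_apply, Tws.Λ_GF, congrFun (P.mem_QQ'.1 hc) i, Pi.inv_apply,
        inv_mul_cancel]) y).trans (congrArg (y * ·) h1.symm))

theorem alg_ss (v : ι → ℤ) (hv : Perp (rts h.dat) v) : v = 0 := by
  by_contra h0
  have h1 : (Matrix.of D.R.C).det = 0 := Matrix.exists_vecMul_eq_zero_iff.1 ⟨v, h0, funext fun i => by
    have h2 := hv _ ((alg_rts h).ge ⟨(true, D.R.zi i), rfl⟩)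
    exact Eq.trans (Finset.sum_congr rfl fun j _ => (mul_comm _ _).trans (congrArg (· * v j) (D.R.wt_zi i j).symm)) h2⟩
  obtain ⟨u, hu, hu'⟩ := Matrix.exists_mulVec_eq_zero_iff.2 h1
  exact hu (D.R.C_inj u fun i => congrFun hu' i)

/-- **the cover with its automorphisms** -/
theorem scA_alg {S : Type} [Group S] (hN : P.Num S) : Nonempty (ScA h.dat S) := by
  obtain ⟨hS, hn, ⟨π, hπ, hc⟩, d, hd, ⟨A, _, a, hA, hA'⟩, hM⟩ := hN
  have := P.finite_TT h.fa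
  have : Finite S := Finite.of_surjective _ hπ
  have hd0 : 0 < d := Nat.pos_of_ne_zero fun h0 => by
    rw [h0, zero_mul, zero_mul, zero_mul] at hM
    exact (Nat.card_pos.trans_le hM).false
  have hk := ker_eq_center hS hn hπ hc
  refine Pk.scA ⟨π, hπ, hk, P.perfect_of h.fa (perfect_of_simple hS hn) hπ hc, P.cover_of h.fa hS hn hπ hc hA hA' hd0 hd,
    fun g hg y _ => ?_, fun σ => ?_⟩ h.GF_eq h.qs h.nt h.pi1 (alg_ss h)
  · obtain ⟨c, e⟩ := (P.zc_bij h.fa).2 ⟨g, hc hg⟩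
    have h1 : D.κ c = g := congrArg (fun z : Subgroup.center P.TT => (z.1 : G)) e
    rw [← h1]
    exact (D.κ_central (fun i => congrFun (P.mem_Zc.1 c.2).2 i) y).symm
  · obtain ⟨s, c, γ, b, h1, h2, h3⟩ := aut_card h.fa hS hn hπ hc (hM.trans (by gcongr)) σ
    refine ⟨s, s.2, _, _, KZ.Dat.au_mul (au_diag h h1) (au_gf h h2 b), fun x x' e => ?_⟩
    obtain ⟨y, h4, h5⟩ := h3 x
    rw [h5]
    exact congrArg π (Subtype.ext (e.trans (congrArg (fun z : G => (s : G) * z * (s : G)⁻¹) h4.symm)))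

theorem hasA_alg {S : Type} [Group S] (hN : P.Num S) {R : Type} [Fintype R] {Ψ : RS R}
    (hΨ : Iso (Set.range fun x => (D.R.wt x, D.R.cov x)) Ψ) : HasA p Ψ S :=
  HasA.mk' (alg_st h) ((alg_rts h).symm ▸ hΨ) (scA_alg h hN)

end Cfsg.Agent.OM.Au
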