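import Cfsg.Agent.OM.Au.C
import Cfsg.Agent.OM.Au.E
import Cfsg.Agent.OM.Gl.Defs

/-!
# OM (S4894): the list of the data, given the linear and the unitary groups (helper4)

`HasA.dat`, `data_of`.
-/

set_option autoImplicit false
set_option linter.unusedSectionVars false

namespace Cfsg.Agent.OM.Au

open Cfsg Cfsg.Agent.HZ.L Cfsg.Agent.OM.Gl

theorem HasA.dat {p : ℕ} [Fact p.Prime] {R : Type} [Fintype R] [DecidableEq R] {Ψ : RS R} {S : Type} [Group S]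
    (h : HasA p Ψ S) (hΨ : ∀ {R' : Type} [Fintype R'] [DecidableEq R'] (Φ : RS R'), Iso Φ Ψ → Gl.Top Φ) : Dat p S :=
  let ⟨k, _, _, _, Y, _, N, _, _, ρ, F, G, X, j, B, h1, h2, h3⟩ := h
  ⟨k, _, _, inferInstance, Y, _, N, _, _, ρ, F, G, X, h3, ⟨j, B, h1⟩, hΨ _ h2⟩

theorem HasA.cl {p : ℕ} [Fact p.Prime] {n : ℕ} {κ : Kd} {b : Fin n → ℕ} {S : Type} [Group S] (h : HasA p (std κ b) S) :
    Dat p S := h.dat fun _ e => .inl ⟨n, κ, b, e⟩

/-- **the list of the data** -/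
theorem data_of
    (hL : ∀ (r : ℕ) [Fact r.Prime] (F : Type) [Field F] [Fintype F] [CharP F r] (n : ℕ), 2 ≤ n →
      (n = 2 → 4 ≤ Fintype.card F) → Dat r (Matrix.ProjectiveSpecialLinearGroup (Fin n) F))
    (hU : ∀ (r : ℕ) [Fact r.Prime] (F : Type) [Field F] [Fintype F] [CharP F r] (n q : ℕ),
      Fintype.card F = q ^ 2 → 3 ≤ n → ¬ (n = 3 ∧ q = 2) → Dat r (PSU n F q)) : Data where
  psl := hL
  psp r _ F _ _ _ m a b := by
    by_cases h : m = 2 ∧ r = 2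
    · obtain ⟨rfl, rfl⟩ := h
      exact (hasA_sp4 (b rfl)).cl
    · exact (hasA_sp a b h).cl
  psu := hU
  oodd _ _ _ _ _ _ _ a b := (hasA_odd a b).cl
  oplus _ _ _ _ _ _ m a := by
    obtain rfl | h := a.eq_or_lt
    · exact hasA_plus4.dat fun _ e => .inr (.inr (.inr (.inl e)))
    · exact (hasA_plus5 h).cl
  ominus _ _ _ _ _ _ _ a b c d := (hasA_minus a b c d).cl
  e6 _ _ _ _ _ _ := hasA_e6.dat fun _ e => .inr (.inr (.inr (.inr (.inl e))))
  e7 _ _ _ _ _ _ := hasA_e7.dat fun _ e => .inr (.inr (.inr (.inr (.inr (.inl e)))))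
  te6 _ _ _ _ _ _ _ a b := (hasA_te6 a b).dat fun _ e => .inr (.inr (.inr (.inr (.inl e))))
  td4 _ _ _ _ _ _ _ a b := (hasA_td4 a b).dat fun _ e => .inr (.inr (.inr (.inl e)))

end Cfsg.Agent.OM.Au
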