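import Cfsg.Agent.OM.Au.Alg
import Cfsg.Agent.HZ.L.CL.Spin
import Cfsg.Agent.HZ.L.CL.Ex
import Cfsg.Agent.TwoF.DC.TBD.Main

/-!
# OM (S4894): the data of the spin groups (helper4)

`hasA_odd`, `hasA_plus5` (rank at least five), `hasA_minus`.
-/

set_option autoImplicit false
set_option linter.unusedSectionVars false

namespace Cfsg.Agent.OM.Au

open Cfsg Cfsg.Agent.DL Matrix Sum Cfsg.Agent.TwoF.DC Cfsg.Agent.TwoF.DC.TC Cfsg.Agent.TwoF.DC.TBD
  Cfsg.Agent.TwoF.DC.TBD.Cl Cfsg.Agent.KM.BD Cfsg.Agent.KM.Dat Cfsg.Agent.HZ.L Cfsg.Agent.HZ.L.CL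

/-- the full classical systems -/
abbrev Fu (κ : Kd) (m : ℕ) : RS (Fin m) := std κ fun _ => 0

theorem hasA_cd {m : ℕ} {Φ : Type} [Fintype Φ] [DecidableEq Φ] (C : CD m Φ) {κ : Kd}
    (hκ : κ = .B ∧ (∃ b, C.ib b = inl ()) ∨ κ = .D ∧ ∀ b, C.ib b ≠ inl ())
    (h : ∀ w, ∃ v, C.X.dual.E v = (2 : ℤ) • w) {p : ℕ} [Fact p.Prime] {k : Type} [Field k]
    [IsAlgClosed k] [CharP k p] (lf : ∀ a : k, ∃ m, 0 < m ∧ a ^ p ^ m = a) (h2 : (∃ b, C.ib b = inl ()) → (2 : k) ≠ 0)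
    (P : Tws (C.rdat k p h2)) (hP : P.Fr = C.fr (frobenius k p)) (hF : (C.rdat k p h2).Fa)
    {S : Type} [Group S] (hN : P.Num S) : HasA p (Fu κ m) S := by
  obtain h3 := rho_diag C p h2
  have a : Alg P (rho C k) := ⟨hF, lf, rho_inj C k, fun g => by rw [hP]; exact rho_fr C p g, rho_poly C p h2, 1, _,
    fun c => by rw [inv_one, one_mul, mul_one, h3]⟩
  have h4 := boxEx m κ _ (Spin.Jc C) 0 (Spin.lat C hκ h)
  rw [← Spin.range_eq C hκ (Spin.lat C hκ h)] at h4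
  exact hasA_alg a hN h4

variable {r : ℕ} [Fact r.Prime] {F : Type} [Field F] [Fintype F] [CharP F r] {m : ℕ}

theorem hasA_odd (hm : 3 ≤ m) (ho : Odd (Fintype.card F)) : HasA r (Fu .B m) (POmega F (quadFormOdd m F)) := by
  obtain ⟨f, hp, hq⟩ := FiniteField.card F r
  have hp2 := Spin.ne_two f.pos hq ho
  let k := AlgebraicClosure F
  have h2 : (2 : k) ≠ 0 := fun e =>
    hp2 ((Nat.prime_dvd_prime_iff_eq hp Nat.prime_two).1 ((CharP.cast_eq_zero_iff k r 2).1 (by exact_mod_cast e)))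
  let D := (cB m).rdat k r fun _ => h2
  let P := tw0 D f f.pos ((cB m).fr (frobenius k r)) ((cB m).fr_z r _ _) ((cB m).fr_y r _ _)
  have hF : D.Fa := TE.fa_of_faith (boxB r hp2 m hm k _ D rfl).faith ⟨0, by omega⟩
  have hv : TBD.Vec D (fun b => b.1.1) ibB (cB m).th := by
    rw [show (fun b : PR m => b.1.1) = fun b => Sum.inl ((cB m).ia b) from funext fun b => (inl_ix b.lt).symm]
    exact (cB m).vec r _
  exact hasA_cd (cB m) (.inl ⟨rfl, ⟨(inl ⟨0, by omega⟩, inl ⟨0, by omega⟩), by simp only [ps_inl]; omega⟩, if_pos rfl⟩)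
    (two_B m) (lf_closure F r) _ P rfl hF (((boxNum r m k _ F).1 hp2 hm D rfl P rfl hq).num
      ((boxPi r m k _ F (algebraMap F k) _).1 hp2 hm D rfl hF hv P rfl hq))

theorem hasA_plus5 (hm : 5 ≤ m) : HasA r (Fu .D m) (POmega F (quadFormPlus m F)) := by
  obtain ⟨f, hp, hq⟩ := FiniteField.card F r
  have : Fact (2 ≤ m) := ⟨by omega⟩
  let k := AlgebraicClosure F
  let P := tD m k r f f.pos 1
  have hF : (dD m k r).Fa := TE.fa_of_faith (faithD (by omega) r k) (fst m)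
  exact hasA_cd (cD m) (.inr ⟨rfl, fun _ => inr_ne_inl⟩) (two_D m) (lf_closure F r) _ P rfl hF
    ((((boxNum r m k _ F).2 _ rfl P hq tD_cent).1 hm rfl).num
      (((boxPi r m k _ F (algebraMap F k) _).2 (by omega) _ rfl hF vec_D P hq).1 rfl))

theorem hasA_minus (a b : F) (hm : 4 ≤ m) (hab : ∀ z₁ z₂ : F, z₁ ^ 2 + a * z₁ * z₂ + b * z₂ ^ 2 = 0 → z₁ = 0 ∧ z₂ = 0) :
    HasA r (Fu .D m) (POmega F (quadFormMinus (m - 1) F a b)) := by
  obtain ⟨f, hp, hq⟩ := FiniteField.card F r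
  have : Fact (2 ≤ m) := ⟨by omega⟩
  let k := AlgebraicClosure F
  let P := tD m k r f f.pos ⟨gN m, Subgroup.mem_zpowers _⟩
  have hF : (dD m k r).Fa := TE.fa_of_faith (faithD (by omega) r k) (fst m)
  exact hasA_cd (cD m) (.inr ⟨rfl, fun _ => inr_ne_inl⟩) (two_D m) (lf_closure F r) _ P rfl hF
    ((((boxNum r m k _ F).2 _ rfl P hq tD_cent).2 hm rfl a b hab).num
      (((boxPi r m k _ F (algebraMap F k) _).2 hm _ rfl hF vec_D P hq).2 rfl a b hab))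

end Cfsg.Agent.OM.Au
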