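import Cfsg.Agent.OM.Rows
import Cfsg.Agent.BZ.A.Desc
import Cfsg.Agent.BZ.Lab.Def
import Cfsg.Agent.H658.Domin

/-!
# OM, Lie type: test functions on blocks (helper4)

`Pc δ c B` : `∑ g, χ g * δ g = c * χ 1` for all members of `B`.  `of_one` (from `One`, along a central extension), `Pc.up`
(to a covering block).
-/

set_option autoImplicit false
set_option linter.unusedSectionVars false

namespace Cfsg.Agent.OM.Au

open Cfsg Subgroup Cfsg.Agent.Blocks.Basic Cfsg.Agent.KM.Mu Cfsg.Agent.Characters.Core Cfsg.Agent.TID.Red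
open Cfsg.Agent.H644.CentralQuot (defl sameBlock_infl_iff)

variable {l : ℕ} [hp : Fact l.Prime] {M : Ideal AlgInt} {H K : Type} [Group H] [Group K] [Fintype H]

/-- the test function `δ` has the eigenvalue `c` on `B` -/
def Pc (δ : H → ℂ) (c : ℂ) (B : Set (IrrCharacter H)) : Prop := ∀ χ ∈ B, ∑ g, (χ : H → ℂ) g * δ g = c * (χ : H → ℂ) 1

theorem down_reg (hM : IsPModular l M) {X : Type} [Group X] [Finite X] {ρ : X →* K} (hρ : Function.Surjective ρ)
    (hk : ¬ l ∣ Nat.card ρ.ker) (χ : IrrCharacter K) {ϑ : IrrCharacter X}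
    (h : ϑ ∈ blockOf M fun x => (χ : K → ℂ) (ρ x)) :
    ∃ χ' ∈ blockOf M (χ : K → ℂ), ∀ x, (ϑ : X → ℂ) x = (χ' : K → ℂ) (ρ x) := by
  have := hM.2.1.isPrime
  let e := QuotientGroup.quotientKerEquivOfSurjective ρ hρ
  let θ : IrrCharacter X := ⟨_, isIrr_comp ρ hρ χ.2⟩
  let θ' : IrrCharacter (X ⧸ ρ.ker) := ⟨_, isIrr_comp e.toMonoidHom e.surjective χ.2⟩
  obtain ⟨c, hc, h1, h2, -⟩ := TO.exists_defl hM (isPBlock_blockOf θ) ρ.ker hk (f := (θ : X → ℂ))
    ⟨_, mem_blockOf_self _, rfl⟩ fun n hn => congrArg (χ : K → ℂ) ((MonoidHom.mem_ker.1 hn).trans (map_one ρ).symm)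
  obtain ⟨f, hf⟩ := h2 ϑ (TO.rd_mem_Fn.2 h)
  obtain ⟨ψ, h3, rfl⟩ := (h1 f).2 (hf ▸ TO.rd_mem_Fn.2 h)
  have h4 : θ' ∈ c := TO.rd_mem_Fn.1 ((h1 θ').2 (TO.rd_mem_Fn (χ := θ).2 (mem_blockOf_self _)))
  have h5 := (H649.irrMap_mem_blkMap (e := e)).2 (isPBlock_eq_blockOf hc h4 ▸ h3)
  rw [H649.blkMap_blockOf] at h5
  refine ⟨H649.irrMap e ψ, by simpa [θ'] using h5, fun x => ?_⟩
  rw [hf]
  exact congrArg (ψ : X ⧸ ρ.ker → ℂ) (e.symm_apply_apply _).symm

/-- the members of the block of an inflation on the regular elements -/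
theorem Pc.pull (hM : IsPModular l M) {ψ : H →* K} (hψ : Function.Surjective ψ) (hk : ψ.ker ≤ center H) {δ : H → ℂ}
    (hδ : ∀ h, δ h ≠ 0 → IsPRegular l h) {c : ℂ} (θ : IrrCharacter K)
    (h : ∀ χ ∈ blockOf M (θ : K → ℂ), ∑ g, (χ : K → ℂ) (ψ g) * δ g = c * (χ : K → ℂ) 1) :
    Pc δ c (blockOf M fun x => (θ : K → ℂ) (ψ x)) := by
  have := hM.2.1.isPrime
  obtain ⟨P⟩ : Nonempty (Sylow l ψ.ker) := inferInstance
  have h1 := map_subtype_le (P : Subgroup ψ.ker)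
  have h2 : IsPGroup l ((P : Subgroup ψ.ker).map ψ.ker.subtype) := P.2.map _
  have h3 := card_map_of_injective (K := (P : Subgroup ψ.ker)) ψ.ker.subtype_injective
  have h4 := (P : Subgroup ψ.ker).card_mul_index
  have h5 := P.not_dvd_index
  rw [← h3] at h4
  generalize (P : Subgroup ψ.ker).map ψ.ker.subtype = U at h1 h2 h4
  have : U.Normal := ⟨fun n hn g => by rwa [mem_center_iff.1 (hk (h1 hn)) g, mul_inv_cancel_right]⟩
  let ρ : H ⧸ U →* K := QuotientGroup.lift U ψ h1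
  have hρ : Function.Surjective ρ := QuotientGroup.lift_surjective_of_surjective U ψ hψ h1
  have h6 := card_ker_mul (QuotientGroup.mk' U) ψ.ker
  rw [QuotientGroup.ker_mk', inf_eq_right.2 h1, ← h4, Nat.mul_right_inj Nat.card_pos.ne',
    ← QuotientGroup.ker_lift U ψ h1] at h6
  intro η hη
  have := finite_irr (G := H ⧸ U)
  have := Fintype.ofFinite (defl U (blockOf M fun x => (θ : K → ℂ) (ψ x)))
  obtain ⟨m, hm⟩ := H658.exists_int_defl hM (h1.trans hk) h2 (b := blockOf M fun x => (θ : K → ℂ) (ψ x))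
    (isPBlock_blockOf ⟨_, isIrr_comp ψ hψ θ.2⟩) hη
  rw [hm 1 (by rw [orderOf_one]; exact hp.out.not_dvd_one), Finset.mul_sum, Finset.sum_congr rfl (g := fun g =>
    ∑ ξ : defl U (blockOf M fun x => (θ : K → ℂ) (ψ x)), m ξ * ((H644.CentralQuot.infl U ξ.1 : H → ℂ) g * δ g)) fun g _ => ?_,
    Finset.sum_comm]
  · refine Finset.sum_congr rfl fun ξ _ => ?_
    obtain ⟨χ, k1, k2⟩ := down_reg hM hρ (by rw [h6]; exact h5) θ (ϑ := ξ.1)
      ((sameBlock_infl_iff hM (h1.trans hk) h2 ⟨_, isIrr_comp ρ hρ θ.2⟩ ξ.1).1 ξ.2)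
    have k3 : ∀ g, (H644.CentralQuot.infl U ξ.1 : H → ℂ) g = (χ : K → ℂ) (ψ g) := fun g => k2 _
    simp only [k3]
    rw [← Finset.mul_sum, h χ k1, map_one, mul_left_comm]
  · by_cases h0 : δ g = 0
    · simp [h0]
    · rw [hm g (hδ g h0), Finset.sum_mul]
      exact Finset.sum_congr rfl fun ξ _ => mul_assoc _ _ _

/-- **from the orbit sums** -/
theorem of_one [Finite K] (hM : IsPModular l M) {Γ : Subgroup (MulAut K)} {b : Set (IrrCharacter K)} (hb : IsPBlock M b)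
    (h1 : One l Γ b) {ψ : H →* K} (hψ : Function.Surjective ψ) (hk : ψ.ker ≤ center H) {δ : H → ℂ}
    (hδ : ∀ h, δ h ≠ 0 → IsPRegular l h)
    (hi : ∀ α ∈ Γ, ∃ β : H ≃ H, ∀ h, δ (β h) = δ h ∧ (δ h ≠ 0 → ψ (β h) = α (ψ h))) {θ : IrrCharacter K} (hθ : θ ∈ b) :
    ∃ c, Pc δ c (blockOf M fun x => (θ : K → ℂ) (ψ x)) := by
  have := hM.2.1.isPrime
  have := Fintype.ofFinite Γ
  have h0 : (Fintype.card Γ : ℂ) ≠ 0 := Nat.cast_ne_zero.2 Fintype.card_ne_zero
  have h2 : ∀ χ : K → ℂ, ∑ g, (∑ᶠ α : Γ, χ (α.1 (ψ g))) * δ g = Fintype.card Γ * ∑ g, χ (ψ g) * δ g := fun χ => by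
    simp only [finsum_eq_sum_of_fintype, Finset.sum_mul]
    rw [Finset.sum_comm, Finset.sum_congr rfl (g := fun _ => ∑ g, χ (ψ g) * δ g) fun α _ => ?_, Finset.sum_const,
      Finset.card_univ, nsmul_eq_mul]
    obtain ⟨β, hβ⟩ := hi α α.2
    rw [← β.sum_comp fun g => χ (ψ g) * δ g]
    refine Finset.sum_congr rfl fun g _ => ?_
    by_cases h0 : δ g = 0
    · rw [(hβ g).1, h0, mul_zero, mul_zero]
    · rw [(hβ g).1, (hβ g).2 h0]
  refine ⟨(∑ g, (θ : K → ℂ) (ψ g) * δ g) / (θ : K → ℂ) 1, Pc.pull hM hψ hk hδ θ fun χ hχ => ?_⟩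
  rw [← isPBlock_eq_blockOf hb hθ] at hχ
  rw [div_mul_eq_mul_div, eq_div_iff (isIrr_apply_one_ne_zero θ.2)]
  refine mul_left_cancel₀ h0 ?_
  rw [← mul_assoc, ← mul_assoc, ← h2, ← h2, Finset.sum_mul, Finset.sum_mul]
  refine Finset.sum_congr rfl fun g _ => ?_
  by_cases h0 : δ g = 0
  · simp [h0]
  · rw [mul_right_comm, h1 χ hχ θ hθ (ψ g) fun e => hδ g h0 (e.trans (orderOf_map_dvd ψ g)), mul_right_comm]

/-- **covering blocks** -/
theorem Pc.up [Fintype K] (hM : IsPModular l M) {ι : H →* K} (hι : Function.Injective ι) (hn : ι.range.Normal)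
    {δ : K → ℂ} (hc : ∀ x g, δ (x * g * x⁻¹) = δ g) (hs : ∀ g, δ g ≠ 0 → g ∈ ι.range) {b : Set (IrrCharacter H)}
    (hb : IsPBlock M b) {B : Set (IrrCharacter K)} (hB : IsPBlock M B) (h : CovH ι B b) {c : ℂ}
    (h1 : Pc (fun g => δ (ι g)) c b) : Pc δ c B := by
  intro χ hχ
  have := finite_irr (G := H)
  have := Fintype.ofFinite (IrrCharacter H)
  have h2 : IsClassFunction H fun g => (χ : K → ℂ) (ι g) := fun g x => by
    simp only [map_mul, map_inv]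
    exact isIrr_isClassFunction χ.2 _ _
  have h3 : ∀ g, (χ : K → ℂ) (ι g) = ∑ η : IrrCharacter H, classInner (fun g => (χ : K → ℂ) (ι g)) η * (η : H → ℂ) g :=
    fun g => by simpa using congrFun (classFunction_eq_sum h2) g
  rw [← Finset.sum_of_injOn (s := Finset.univ) (f := fun g => (χ : K → ℂ) (ι g) * δ (ι g)) ι hι.injOn
    (fun _ _ => Finset.mem_univ _) (fun g _ hg => ?_) fun _ _ => rfl, ← map_one ι, h3 1, Finset.mul_sum,
    Finset.sum_congr rfl fun g _ => by rw [h3 g, Finset.sum_mul], Finset.sum_comm]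
  · refine Finset.sum_congr rfl fun η _ => ?_
    by_cases h0 : classInner (fun g => (χ : K → ℂ) (ι g)) η = 0
    · simp [h0]
    obtain ⟨w, θ, k1, k2⟩ := BZ.Lab.Df.conj_of_covH hM hι hn hB hb h hχ (ψ := η) (by
      unfold Ov
      convert h0)
    choose e he using fun k => hn.conj_mem _ ⟨k, rfl⟩ w
    have k3 : Function.Bijective e := Finite.injective_iff_bijective.1 fun a b hab => hι (by
      have := congrArg ι hab
      rwa [he, he, mul_left_inj, mul_right_inj] at this)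
    have k4 := h1 θ k1
    rw [← k3.sum_comp, ← k2 1 1 (by simp)] at k4
    simp only [mul_assoc]
    rw [← Finset.mul_sum, mul_left_comm, ← k4]
    exact congrArg _ (Finset.sum_congr rfl fun g _ => by beta_reduce; rw [k2 g (e g) (he g), he, hc])
  · refine mul_eq_zero_of_right _ (not_not.1 fun h0 => hg ?_)
    obtain ⟨x, rfl⟩ := hs g h0
    exact ⟨x, Finset.mem_coe.2 (Finset.mem_univ _), rfl⟩

end Cfsg.Agent.OM.Au
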