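import Cfsg.Agent.OM.Au.Gr
import Cfsg.Agent.OM.Au.Blk

/-!
# OM, Lie type: `One` implies `QQ` (helper4)

* `ScA.exists_psi` : the map onto the cover;
* `ScA.q_sc` : `QQ` for the block of `G ^ F` which dominates `b`; `ScA.q_reg` : for the blocks of a regular embedding over it.
-/

set_option autoImplicit false
set_option linter.unusedSectionVars false

namespace Cfsg.Agent.OM.Au

open Cfsg Subgroup Cfsg.Agent.DL Cfsg.Agent.DL.PP Cfsg.Agent.DL.Uni Cfsg.Agent.KZ.Lie Cfsg.Agent.HZ.L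
  Cfsg.Agent.Nodes.Reps Cfsg.Agent.Blocks.Basic Cfsg.Agent.Characters.Core Cfsg.Agent.TID.Red

/-- two `p`-elements which differ by a central element of order prime to `p` -/
theorem eq_of_cen {p : ℕ} (hp : p.Prime) {K : Type} [Group K] (hZ : ¬ p ∣ Nat.card (center K)) {x y : K}
    (hx : ∃ n, x ^ p ^ n = 1) (hy : ∃ n, y ^ p ^ n = 1) (h : x⁻¹ * y ∈ center K) : x = y := by
  obtain ⟨n, hx⟩ := hx
  obtain ⟨m, hy⟩ := hy
  have h1 : Commute x (x⁻¹ * y) := mem_center_iff.1 h x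
  have h2 : (x⁻¹ * y) ^ p ^ (n + m) = 1 := by
    have h3 := h1.mul_pow (p ^ (n + m))
    rwa [mul_inv_cancel_left, add_comm n, pow_add, mul_comm (p ^ m), pow_mul x, hx, one_pow, one_mul, mul_comm (p ^ n),
      pow_mul y, hy, one_pow, eq_comm, ← pow_add, add_comm m] at h3
  have h3 : (x⁻¹ * y) ^ Nat.card (center K) = 1 := congrArg Subtype.val (pow_card_eq_one' (x := (⟨_, h⟩ : center K)))
  have h4 := pow_gcd_eq_one.2 ⟨h2, h3⟩
  rw [(Nat.Coprime.pow_left _ ((Nat.Prime.coprime_iff_not_dvd hp).2 hZ)).gcd_eq_one, pow_one] at h4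
  exact inv_mul_eq_one.1 h4

/-- an automorphism of a cover induces an automorphism of the central quotient -/
theorem exists_ind {K S : Type} [Group K] [Group S] {σ : K →* S} (hσ : Function.Surjective σ) (hk : σ.ker = center K)
    (α : MulAut K) : ∃ τ : MulAut S, ∀ x, τ (σ x) = σ (α x) := by
  have h1 : ∀ α : MulAut K, σ.ker ≤ (σ.comp α.toMonoidHom).ker := fun α x hx => by
    rw [hk] at hx
    show α x ∈ σ.ker
    rw [hk, mem_center_iff]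
    intro y
    obtain ⟨y, rfl⟩ := α.surjective y
    rw [← map_mul, ← map_mul, mem_center_iff.1 hx]
  let t : MulAut K → S →* S := fun α => σ.liftOfSurjective hσ ⟨_, h1 α⟩
  have h2 : ∀ α x, t α (σ x) = σ (α x) := fun α x => σ.liftOfRightInverse_comp_apply _ _ _ x
  exact ⟨⟨⟨t α, t α⁻¹, hσ.forall.2 fun x => by rw [h2, h2, MulAut.inv_apply_self],
    hσ.forall.2 fun x => by rw [h2, h2, MulAut.apply_inv_self]⟩, map_mul _⟩, h2 α⟩

variable {p : ℕ} [Fact p.Prime] {k : Type} [Field k] [CharP k p] [IsAlgClosed k] {Y : Type} [Group Y] {N : Type}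
  [Fintype N] [DecidableEq N] {ρ : Y →* GL N k} {F : MulAut Y} {G : Subgroup Y} {D : Datum p ρ F G}
  [Fintype ↥(GF F G)] {f : Fr D}

theorem QQ.of_Pc {B : Set (IrrCharacter ↥(GF F G))} (h : ∀ a, Iv D a → ∃ c, Pc (dG f a) c B) : QQ f B :=
  fun a ha χ hχ χ' hχ' => by
    obtain ⟨c, hc⟩ := h a ha
    rw [sum_Yt, sum_Yt, hc χ hχ, hc χ' hχ']
    ring

variable {S : Type} [Group S] {l : ℕ} {M : Ideal AlgInt} {K : Type} [Group K] [Finite K]
  {Γ : Subgroup (MulAut K)} {b : Set (IrrCharacter K)} {Q : Subgroup K} {σ : K →* S}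

namespace ScA

variable (s : ScA D S) (H : Hyp l M Γ b Q σ) (hZ : ¬ p ∣ Nat.card (center K))
include H hZ

omit [Fintype ↥(GF F G)] in
/-- the map onto the cover -/
theorem exists_psi : ∃ ψ : ↥(GF F G) →* K, Function.Surjective ψ ∧ ∀ h, σ (ψ h) = s.π h :=
  s.cov K H.sit.qs hZ ((QuotientGroup.quotientMulEquivOfEq H.ker.symm).trans
    (QuotientGroup.quotientKerEquivOfSurjective σ H.surj))

variable (hl : l ≠ p) {ψ : ↥(GF F G) →* K} (hψ : Function.Surjective ψ) (hπ : ∀ h, σ (ψ h) = s.π h)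
  {θ : IrrCharacter K} (hθ : θ ∈ b)
include hl hψ hπ hθ

theorem pc {a : D.W → ℂ} (ha : Iv D a) : ∃ c, Pc (dG f a) c (blockOf M fun x => (θ : K → ℂ) (ψ x)) := by
  have := Fact.mk H.hM.1
  have hp : p.Prime := Fact.out
  have h0 : ∀ h : ↥(GF F G), dG f a h ≠ 0 → ∃ n, h ^ p ^ n = 1 := fun h hh => by
    obtain ⟨n, hn⟩ := (dG_supp hh).1
    exact ⟨n, by rw [← hn, orderOf_coe, pow_orderOf_eq_one]⟩
  refine of_one H.hM H.hb H.one hψ (fun x hx => s.ker ▸ ?_) (fun h hh e => ?_) (fun α _ => ?_) hθ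
  · rw [MonoidHom.mem_ker, ← hπ, MonoidHom.mem_ker.1 hx, map_one]
  · obtain ⟨n, hn⟩ := h0 h hh
    exact hl ((Nat.prime_dvd_prime_iff_eq H.hM.1 hp).1 (H.hM.1.dvd_of_dvd_pow (e.trans (orderOf_dvd_of_pow_eq_one hn))))
  obtain ⟨τ, hτ⟩ := exists_ind H.surj H.ker α
  obtain ⟨g, hg, β, A, h1, h2⟩ := s.aut τ
  obtain ⟨γ, hγ⟩ : ∃ γ : MulAut ↥(GF F G), ∀ h, γ h = ⟨g, hg⟩ * h1.aut h * (⟨g, hg⟩ : ↥(GF F G))⁻¹ :=
    ⟨MulAut.conj ⟨g, hg⟩ * h1.aut, fun _ => rfl⟩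
  refine ⟨γ.toEquiv, fun h => ?_⟩
  show dG f a (γ h) = dG f a h ∧ (dG f a h ≠ 0 → ψ (γ h) = α (ψ h))
  refine ⟨by rw [hγ, dG_conj, dG_aut s.qs ha h1 h], fun hh => ?_⟩
  obtain ⟨n, hn⟩ := h0 h hh
  refine eq_of_cen hp hZ ⟨n, by rw [← map_pow, ← map_pow, hn, map_one, map_one]⟩
    ⟨n, by rw [← map_pow, ← map_pow, hn, map_one, map_one]⟩ ?_
  rw [← H.ker, MonoidHom.mem_ker, map_mul, map_inv, ← hτ, hπ, hπ, h2 h (γ h) (by rw [hγ]; rfl), inv_mul_cancel]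

/-- **the block of the universal cover** -/
theorem q_sc (f : Fr D) {B : Set (IrrCharacter ↥(GF F G))} (hB : IsPBlock M B) {χ : IrrCharacter ↥(GF F G)} (hχ : χ ∈ B)
    (h : ∀ x, (χ : ↥(GF F G) → ℂ) x = (θ : K → ℂ) (ψ x)) : QQ f B := by
  have := H.hM.2.1.isPrime
  rw [isPBlock_eq_blockOf hB hχ, funext h]
  exact QQ.of_Pc fun _ ha => s.pc H hZ hl hψ hπ hθ ha

attribute [local instance] Reg.gY Reg.fN Reg.dN Reg.fin

/-- **the blocks of a regular embedding** -/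
theorem q_reg {j : ℕ} {B₀ : Mat D.R} (hs : St D j B₀) (R : Reg D f j B₀) {B : Set (IrrCharacter ↥(GF R.F' R.G'))}
    (hB : IsPBlock M B) {χ : IrrCharacter ↥(GF R.F' R.G')} (hχ : χ ∈ B)
    (h : Ov R.ι (χ : ↥(GF R.F' R.G') → ℂ) fun x => (θ : K → ℂ) (ψ x)) : QQ R.f' B := QQ.of_Pc fun a' ha' => by
  have := Fact.mk H.hM.1
  have := H.hM.2.1.isPrime
  obtain ⟨a, ha, h1⟩ := dG_reg R hs s.ss ha'
  obtain ⟨c, hc⟩ := s.pc (f := f) H hZ hl hψ hπ hθ ha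
  let η : IrrCharacter ↥(GF F G) := ⟨_, isIrr_comp ψ hψ θ.2⟩
  exact ⟨c, Pc.up H.hM R.inj (Normal.of_commutator_le _ R.comm) dG_conj (fun _ => dG_range R) (isPBlock_blockOf η) hB
    ⟨χ, hχ, η, mem_blockOf_self η, h⟩ (funext h1 ▸ hc)⟩

end ScA

end Cfsg.Agent.OM.Au
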