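import Cfsg.Agent.OM.Au.Cov
import Cfsg.Agent.OM.Au.BD
import Cfsg.Agent.OM.Gl.Ad
import Cfsg.Agent.HZ.L.CL.Sp
import Cfsg.Agent.HZ.L.U.Ex
import Cfsg.Agent.TwoF.DC.TC.Num
import Cfsg.Agent.KM.Nt
import Cfsg.Agent.KM.Sc.C
import Cfsg.Agent.S2693

/-!
# OM (S4894): the data of the symplectic groups (helper4)

`hasA_sp` (type `C`), `hasA_sp4` (rank two in characteristic two).
-/

set_option autoImplicit false
set_option linter.unusedSectionVars false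

namespace Cfsg.Agent.OM.Au

open Cfsg Cfsg.Lie Cfsg.Agent.DL Cfsg.Agent.DL.PP Cfsg.Agent.KZ.Lie Cfsg.Agent.HZ.L Cfsg.Agent.HZ.L.CL Matrix Subgroup
  Cfsg.Agent.KZ.Dat Cfsg.Agent.KZ.DatX Cfsg.Agent.Tits.Roots

variable {r : ℕ} [Fact r.Prime] {F : Type} [Field F] [Fintype F] {m : ℕ}

theorem hasA_sp [CharP F r] (hm : 2 ≤ m) (h2 : m = 2 → 3 ≤ Fintype.card F) (h3 : ¬ (m = 2 ∧ r = 2)) :
    HasA r (Fu .C m) (PSp m F) := by
  obtain ⟨k, _, _, _, hk, e, he, f, hq⟩ := hasC r F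
  obtain ⟨h4, h5, h6, -⟩ := TwoF.DC.TC.num_aux hq f hm h2 h3
  have h7 : Nat.card (QuotientGroup.mk' (center (symplecticGroup (Fin m) F))).ker = Nat.gcd 2 (r ^ e - 1) := by
    rw [QuotientGroup.ker_mk', LieClassical.SympCenter.card_center (by omega), hq]
  have h8 := boxEx m .C _ 1 0 SpR.lat_one
  rw [SpR.sub_one, ← SpR.rtsC hk he] at h8
  refine HasA.mk' (SpR.stC hk he) h8 (scA_of (ioS f) (ioS_inj f) (GF_C f hq) (QuotientGroup.mk' _) h4 h5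
    (QuotientGroup.mk'_surjective _) (fun s => (kerC f s).1) (S0269.result m (by omega)) (fun h => ?_) (h7 ▸ h6)
    (fun σ => lf_true ((covC f hk he hq (S2693.result hm fun a b => h3 ⟨a, b⟩)).aut σ)) (datC_qs hk he) (KM.ScC.ntC he)
    (KM.ScC.pi1C hk he) fun v hv => funext fun i : Fin m => ?_)
  · have h9 := (h7 ▸ h).trans (Nat.gcd_dvd_right _ _)
    exact (Fact.out : r.Prime).not_dvd_one
      ((Nat.dvd_sub_iff_right (Nat.one_le_pow _ _ (Fact.out : r.Prime).pos) (dvd_pow_self r he.ne')).1 h9)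
  · have h9 := hv _ ((SpR.rtsC hk he).ge (.inr ⟨i, 1, .inr ⟨rfl, rfl⟩⟩))
    have h10 : (2 : ℤ) * (((1 : ℤˣ) : ℤ) * v i) = 0 :=
      (congrArg _ (ExB.uv_dot i 1 v).symm).trans ((smul_dotProduct _ _ _).symm.trans h9)
    exact show v i = 0 by simpa using h10

/-! ### rank two in characteristic two -/

/-- the invariant form -/
def BB2 : Fin 2 → Fin 2 → ℤ := ![![2, -2], ![-2, 4]]

theorem fb_B2 : U.FB chevB2 2 BB2 := by decide +kernel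

attribute [local instance] U.ExU.kd

/-- the map to the standard coordinates -/
def toB (a : Vec (Fin 2) × Vec (Fin 2)) : Vec (Fin 2) × Vec (Fin 2) := (a.1 ᵥ* !![0, 1; 1, -1], !![1, 1; 1, 0] *ᵥ a.2)

/-- membership in the standard system -/
@[reducible] def decB (a : Vec (Fin 2) × Vec (Fin 2)) : Decidable (a ∈ Fu .B 2) := inferInstanceAs (Decidable (_ ∨ _ ∨ _))

attribute [local instance] decB

theorem iso_B2 : Iso (U.Ph chevB2 2 BB2) (Fu .B 2) := by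
  have h1 : ∀ s : Fin chevB2.nroots, toB (U.pr chevB2 2 BB2 s) ∈ Fu .B 2 := by decide +kernel
  have h2 : ∀ s t : Fin chevB2.nroots, (toB (U.pr chevB2 2 BB2 s) = toB (U.pr chevB2 2 BB2 t) →
      U.pr chevB2 2 BB2 s = U.pr chevB2 2 BB2 t) ∧ (toB (U.pr chevB2 2 BB2 s)).1 ⬝ᵥ (toB (U.pr chevB2 2 BB2 t)).2 =
      (U.pr chevB2 2 BB2 s).1 ⬝ᵥ (U.pr chevB2 2 BB2 t).2 := by decide +kernel
  have h3 : ∀ i j : Fin 2, i ≠ j → ∃ s : Fin chevB2.nroots, toB (U.pr chevB2 2 BB2 s) =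
      (Pi.single i 1 - Pi.single j 1, Pi.single i 1 - Pi.single j 1) := by decide +kernel
  have h4 : ∀ (i j : Fin 2) (u : ℤˣ), i ≠ j → ∃ s : Fin chevB2.nroots, toB (U.pr chevB2 2 BB2 s) =
      (Pi.single i (u : ℤ) + Pi.single j (u : ℤ), Pi.single i (u : ℤ) + Pi.single j (u : ℤ)) := by decide +kernel
  have h5 : ∀ (i : Fin 2) (u : ℤˣ), ∃ s : Fin chevB2.nroots, toB (U.pr chevB2 2 BB2 s) =
      (Pi.single i (u : ℤ), Pi.single i (2 * u : ℤ)) := by decide +kernel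
  refine ExB.iso_of toB ⟨?_, ?_, ?_⟩ ?_
  · rintro _ ⟨s, rfl⟩
    exact h1 s
  · rintro _ ⟨s, rfl⟩ _ ⟨t, rfl⟩
    exact (h2 s t).1
  · rintro _ (⟨i, j, a, -, rfl⟩ | ⟨i, j, u, a, -, -, rfl⟩ | ⟨i, u, -, ⟨-, rfl⟩ | ⟨a, -⟩⟩)
    · exact let ⟨s, h⟩ := h3 i j a; ⟨_, ⟨s, rfl⟩, h⟩
    · exact let ⟨s, h⟩ := h4 i j u a; ⟨_, ⟨s, rfl⟩, h⟩
    · exact let ⟨s, h⟩ := h5 i u; ⟨_, ⟨s, rfl⟩, h⟩
    · cases a
  · rintro _ ⟨s, rfl⟩ _ ⟨t, rfl⟩
    exact (h2 s t).2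

/-- the coroots as columns -/
def PB2 : Mat (Fin 2) := !![2, -1; -2, 2]

theorem PB2_inv : PB2 * !![2, 1; 2, 2] = ((2 : ℕ) : ℤ) ^ 1 • (1 : Mat (Fin 2)) ∧
    !![2, 1; 2, 2] * PB2 = ((2 : ℕ) : ℤ) ^ 1 • (1 : Mat (Fin 2)) := by decide +kernel

theorem PB2_ss (v : Fin 2 → ℤ) (h : ∀ i : Fin 2, (sr i ᵥ* PB2) ⬝ᵥ v = 0) : v = 0 := by
  have h8 : PB2 *ᵥ v = 0 := funext fun i => by
    have h9 := h i
    rwa [← dotProduct_mulVec, sr, single_dotProduct, one_mul] at h9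
  have h9 := congrArg (!![2, 1; 2, 2] *ᵥ ·) h8
  simp only [mulVec_mulVec, PB2_inv.2, smul_mulVec, one_mulVec, mulVec_zero] at h9
  exact (smul_eq_zero.1 h9).resolve_left (by norm_num)

/-- the coordinates of the coroot lattice -/
def coB {k : Type} [Field k] [CharP k 2] [IsAlgClosed k] {e : ℕ} (X : XF hpB2 2 k ((2 : ℤ) ^ e • 1)) : Co X.D where
  P := PB2
  Q := (!![2, 1; 2, 2] : Mat (Fin 2))
  a := 1
  PQ := PB2_inv.1
  QP := PB2_inv.2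
  cw := fun i : Fin 2 => (Pi.single i 1 : Fin 2 → ℤ)
  cw_eq := show ∀ i : Fin 2, PB2 *ᵥ Pi.single i 1 = ChevalleyStructure.CoxeterGeomTypes.cartanOf chevB2 2 i by decide +kernel
  Mx := ((2 : ℤ) ^ e • 1 : Mat (Fin 2))
  Mx_eq := show PB2 * ((2 : ℤ) ^ e • 1) = ((2 : ℤ) ^ e • 1) * PB2 by rw [mul_smul_comm, smul_mul_assoc, mul_one, one_mul]

theorem hasA_sp4 [CharP F 2] (h2 : 3 ≤ Fintype.card F) : HasA 2 (Fu .B 2) (PSp 2 F) := by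
  obtain ⟨e, -, hq⟩ := FiniteField.card F 2
  obtain ⟨k, _, _, _, X, ⟨s⟩⟩ := has_PSp4 hq
  have h3 : Nat.card (MonoidHom.id (PSp 2 F)).ker = 1 := by rw [MonoidHom.ker_id, card_bot]
  have h4 := S0270.result (F := F) 2 le_rfl fun _ => h2
  have h5 := H837.RC.KilledP2.psp_nonab (F := F) le_rfl fun _ => h2
  have h6 : Nat.gcd 2 (Fintype.card F - 1) = 1 := Nat.coprime_two_left.2 (by
    rw [hq]
    exact Nat.Even.sub_odd Nat.one_le_two_pow (Nat.even_pow.2 ⟨even_two, e.ne_zero⟩) odd_one)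
  refine HasA.mk' (X := rco (coB X)) (Gl.st_of (fun i : Fin 2 => ⟨(Pi.single i 1 : Fin 2 → ℤ), ?_⟩) e.pos X.D_qs rfl)
    ((rco_iso _).trans (U.rts_Ph X fb_B2 ▸ iso_B2)) (scA_of s.ι s.ov.inj s.H0_eq.symm (.id _) h4 h5 Function.surjective_id
    (fun a ha y _ => by rw [show a = 1 from ha, map_one, mul_one, one_mul]) (TwoF.DC.perfect_of_simple h4 h5)
    (h3 ▸ Nat.prime_two.not_dvd_one) ⟨_, _, 0, S2092.result rfl 2 le_rfl (fun _ => h2) (by omega), ?_⟩ (fun σ => ?_) X.D_qs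
    (KM.Nt.nt_X X two_pos one_pos (one_pow 1)) (TO.X.Cn.pi1_of_mat _ (fun i : Fin 2 => (Pi.single i 1 : Fin 2 → ℤ)) ?_)
    fun v hv => ?_)
  · exact (show ∀ i : Fin 2, (Pi.single i 1 : Fin 2 → ℤ) ⬝ᵥ Pi.single i 1 = 1 by decide +kernel) i
  · rw [Nat.card_congr Multiplicative.toAdd, Nat.card_zmod, h6]
    exact one_dvd _
  · obtain ⟨g, h7, α, A, h8, ⟨j, B, h9, rfl⟩, h10⟩ := s.aut σ
    refine ⟨g, h7, α, ((2 : ℕ) : ℤ) ^ j • B, rco_au _ h8 ?_, trivial, fun a => ⟨σ a, h10 a, rfl⟩⟩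
    have h11 : ∀ B ∈ [1, GamB], PB2 * B = B * PB2 := by decide +kernel
    exact show PB2 * (((2 : ℕ) : ℤ) ^ j • B) = (((2 : ℕ) : ℤ) ^ j • B) * PB2 by rw [mul_smul_comm, smul_mul_assoc, h11 B h9]
  · exact show ∀ j m : Fin 2, ∑ i : Fin 2, (Pi.single j 1 : Fin 2 → ℤ) i * (Pi.single i 1 : Fin 2 → ℤ) m =
      if j = m then ((1 : ℕ) : ℤ) else 0 by decide +kernel
  · exact PB2_ss v fun i => hv _ ⟨sr i, isRoot_sr _ _ i, rfl⟩

end Cfsg.Agent.OM.Au
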