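import Cfsg.Agent.OM.Au.Alg
import Cfsg.Agent.HZ.L.Reg.Main

/-!
# OM (S4894): `ScA` from a covering; new coordinates of the torus (helper4)

* `pk_of`, `scA_cov` : the cover with its automorphisms;
* `rco` : the datum in the coordinates `P`; `rco_au`, `rco_iso`.
-/

set_option autoImplicit false
set_option linter.unusedSectionVars false

namespace Cfsg.Agent.OM.Au

open Cfsg Cfsg.Agent.DL Cfsg.Agent.DL.PP Cfsg.Agent.KZ.Lie Cfsg.Agent.HZ.L Cfsg.Agent.TwoF.DC Matrix Subgroup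

variable {p : ℕ} [Fact p.Prime] {k : Type} [Field k] [CharP k p] [IsAlgClosed k] {Y : Type} [Group Y] {N : Type}
  [Fintype N] [DecidableEq N] {ρ : Y →* GL N k} {F : MulAut Y} {G : Subgroup Y} {X : Datum p ρ F G} {S : Type} [Group S]

/-- the multiplier is `d` up to the characteristic -/
def Mu (p d : ℕ) (S : Type) [Group S] : Prop :=
  ∃ (A : Type) (_ : CommGroup A) (a : ℕ), HasSchurMultiplier S A ∧ Nat.card A ∣ d * p ^ a

theorem pk_of {H : Subgroup Y} [Finite H] (hG : H ≤ G) (π : H →* S) (hS : IsSimpleGroup S) (hn : ¬ IsMulCommutative S)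
    (hπ : Function.Surjective π) (ker : ∀ h : H, π h = 1 → ∀ y ∈ G, y * h = h * y) (perf : commutator H = ⊤)
    (hp : ¬ p ∣ Nat.card π.ker) (hA : Mu p (Nat.card π.ker) S)
    (aut : ∀ σ : MulAut S, ∃ g ∈ H, ∃ α A, Au X α A ∧ ∀ h : H, ∃ h' : H, (h' : Y) = g * α h * g⁻¹ ∧ π h' = σ (π h)) :
    Pk X H S := by
  obtain ⟨A, _, a, hA, hd⟩ := hA
  have hc : π.ker ≤ center H := fun h hh => mem_center_iff.2 fun y => Subtype.ext (ker h hh y (hG y.2))
  refine ⟨π, hπ, ker_eq_center hS hn hπ hc, perf, fun K _ _ hK h0 e => ?_, ker, fun σ => ?_⟩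
  · have h1 : (e.toMonoidHom.comp (QuotientGroup.mk' (center K))).ker = center K :=
      (MonoidHom.ker_comp_of_injective _ _ e.injective).trans (QuotientGroup.ker_mk' _)
    exact cover_of_mult Fact.out (perfect_of_simple hS hn) hA (H95.StemCover.isStem perf hπ hc)
      (H95.StemCover.isStem (π := e.toMonoidHom.comp (QuotientGroup.mk' (center K))) hK.1.commutator_eq_top
        (e.surjective.comp (QuotientGroup.mk'_surjective _)) h1.le) hp (h1.symm ▸ h0) hd Nat.card_pos le_rfl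
  · obtain ⟨g, hg, α, B, h1, h2⟩ := aut σ
    refine ⟨g, hg, α, B, h1, fun h h' e => ?_⟩
    obtain ⟨h'', h3, h4⟩ := h2 h
    rwa [show h' = h'' from Subtype.ext (e.trans h3.symm)]

/-- **from an isomorphism of a covering group with `G ^ F`** -/
theorem scA_of {T : Type} [Group T] (ι : T →* Y) (inj : Function.Injective ι) (e : GF F G = ι.range) (q : T →* S)
    (hS : IsSimpleGroup S) (hn : ¬ IsMulCommutative S) (hq : Function.Surjective q)
    (ker : ∀ s, q s = 1 → ∀ y ∈ G, y * ι s = ι s * y) (perf : commutator T = ⊤) (hp : ¬ p ∣ Nat.card q.ker)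
    (hA : Mu p (Nat.card q.ker) S) (aut : ∀ σ, KZ.Dat.Lf X (fun _ => True) ι q σ) (qs : X.QS) (nt : KM.Deg.NT p ρ F)
    (pi1 : TO.X.Cn.Pi1 X 1) (ss : ∀ v, Perp (rts X) v → v = 0) : Nonempty (ScA X S) := by
  have : Finite ι.range := e ▸ X.amb.finite_GF G
  obtain ⟨i, hi⟩ : ∃ i : T ≃* ι.range, ∀ s, (i s : Y) = ι s := ⟨MonoidHom.ofInjective inj, fun _ => rfl⟩
  have h1 : Nat.card (q.comp i.symm.toMonoidHom).ker = Nat.card q.ker := by
    rw [← MonoidHom.comap_ker, ← map_equiv_eq_comap_symm', card_map_of_injective i.injective]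
  refine (pk_of (fun y hy => (e.ge hy).1) (q.comp i.symm.toMonoidHom) hS hn (hq.comp i.symm.surjective)
    (i.surjective.forall.2 fun s hs => hi s ▸ ker s (by simpa using hs)) ?_ (h1 ▸ hp) (h1 ▸ hA) fun σ => ?_).scA e qs nt pi1 ss
  · rw [commutator_def, ← map_top_of_surjective i.toMonoidHom i.surjective, ← map_commutator, ← commutator_def, perf]
  · obtain ⟨g, hg, α, A, h2, -, h3⟩ := aut σ
    refine ⟨g, e.le hg, α, A, h2, i.surjective.forall.2 fun s => ?_⟩
    obtain ⟨s', h4, h5⟩ := h3 s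
    exact ⟨i s', by rw [hi, hi, h4], by simpa using h5⟩

theorem lf_true {T : Type} [Group T] {ι : T →* Y} {q : T →* S} {Adm : Mat X.R → Prop} {σ : MulAut S}
    (h : KZ.Dat.Lf X Adm ι q σ) : KZ.Dat.Lf X (fun _ => True) ι q σ :=
  let ⟨g, h1, α, A, h2, _, h3⟩ := h
  ⟨g, h1, α, A, h2, trivial, h3⟩

/-! ### new coordinates -/

variable (X) in
/-- the data of a change of coordinates -/
structure Co where
  P : Mat X.R
  Q : Mat X.R
  a : ℕ
  PQ : P * Q = (p : ℤ) ^ a • (1 : Mat X.R)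
  QP : Q * P = (p : ℤ) ^ a • (1 : Mat X.R)
  cw : X.I → X.R → ℤ
  cw_eq : ∀ i, P *ᵥ cw i = X.cw i
  Mx : Mat X.R
  Mx_eq : P * Mx = X.Mx * P

variable (C : Co X)

theorem Co.inj : Function.Injective (mon (k := k) C.P) := (injective_iff_map_eq_one _).2 fun c hc => by
  have h1 : c ^ p ^ C.a = 1 := by rw [← KZ.Dat.mon_pow, ← C.QP, mon_mul, hc, map_one]
  refine funext fun i => Units.ext ((iterateFrobenius k p C.a).injective ?_)
  rw [iterateFrobenius_def, ← Units.val_pow_eq_pow_val, ← Pi.pow_apply, h1, Pi.one_apply, Units.val_one, map_one]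

theorem Co.surj : Function.Surjective (mon (k := k) C.P) := fun c =>
  let ⟨d, hd⟩ := KZ.Dat.surj_mon (p := p) C.a c
  ⟨mon C.Q d, by rw [← mon_mul, C.PQ, hd]⟩

/-- **the datum in the new coordinates** -/
noncomputable def rco : Datum p ρ F G :=
  { X with
    τ := X.τ.comp (mon C.P)
    τ_inj := X.τ_inj.comp C.inj
    mem_T := fun t => (X.mem_T t).trans C.surj.exists
    wt := AddMonoidHom.mk' (fun a => X.wt a ᵥ* C.P) fun a b => by rw [map_add, add_vecMul]
    cw := C.cw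
    pair := fun i a => by
      rw [← X.pair, ← C.cw_eq]
      exact (dotProduct_mulVec _ _ _).symm
    tor := fun a ha c u => (X.tor a ha _ u).trans (by rw [chr_mon]; rfl)
    refl := fun i c => (X.refl i _).trans (by
      rw [MonoidHom.comp_apply, map_mul (mon (k := k) C.P), map_inv (mon (k := k) C.P), mon_coch, C.cw_eq, chr_mon]; rfl)
    diag := by
      obtain ⟨g, μ, h⟩ := X.diag
      exact ⟨g, fun i => μ i ᵥ* C.P, fun c => (h _).trans (by simp only [chr_mon])⟩
    Mx := C.Mx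
    F_τ := fun c => (X.F_τ _).trans (by rw [MonoidHom.comp_apply, ← mon_mul, ← mon_mul, C.Mx_eq]) }

theorem rco_au {α : MulAut Y} {A A' : Mat X.R} (h : Au X α A) (e : C.P * A' = A * C.P) : Au (rco C) α A' :=
  ⟨h.comm, h.memG, h.memT, h.memU, fun c : X.R → kˣ => (h.tau _).trans (congrArg X.τ
    ((mon_mul A C.P c).symm.trans ((congrArg (fun M => mon M c) e.symm).trans (mon_mul C.P A' c))))⟩

theorem rco_iso : Iso (rts (rco C)) (rts X) :=
  ⟨(Reg.rtE (rco C)).symm.trans (Reg.rtE X), (Reg.rtE (rco C)).surjective.forall₂.2 fun a b => by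
    have h : ∀ c, ((Reg.rtE (rco C)).symm.trans (Reg.rtE X)) (Reg.rtE (rco C) c) = Reg.rtE X c := fun c =>
      congrArg (Reg.rtE X) ((Reg.rtE (rco C)).symm_apply_apply c)
    rw [h, h]
    exact (X.pair_cor b.2 a.1).trans ((rco C).pair_cor b.2 a.1).symm⟩

end Cfsg.Agent.OM.Au
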